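import Groth.Agent.Lib.ThetaSch13.Level

/-!
# Lifts give isotropy
-/

set_option autoImplicit false
set_option linter.style.haveILetI false
set_option linter.unusedSectionVars false
set_option backward.isDefEq.respectTransparency.types false

universe u

open CategoryTheory CategoryTheory.Limits MonoidalCategory CartesianMonoidalCategory MonObj AlgebraicGeometry Opposite

noncomputable section

namespace Groth.Agent.ThetaSplit13

open ThetaGrp ThetaGrp19 ThetaSch13

variable {S : Scheme.{u}} {A : Over S} [GrpObj A] [IsCommMonObj A] {L : A.left.Modules}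
  (hA : HZero A) (hL : PicF.IsInvertible L) {G : Over S} [GrpObj G] {u : thetaPts A L G}
  (hG : IsThetaGrpSch A L G u) {N : Over S} [GrpObj N] (v : N ⟶ A)

include hL in
theorem scalPt_mul {T : Over S} (r r' : (Γ(T.left, ⊤))ˣ) (β β' : thetaPts A L T) :
    scalPt r β * scalPt r' β' = scalPt (r * r') (β * β') := by
  refine Subtype.ext (Iso.ext ?_)
  show (scalPt r' β').1.hom ≫ (scalPt r β).1.hom = (scalPt (r * r') (β * β')).1.hom
  rw [scalPt_hom, scalPt_hom, scalPt_hom, Category.assoc, reassoc_of% (pt_comp_scalar hL β' (r : Γ(T.left, ⊤))),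
    Units.val_mul, ← mul_comm (r' : Γ(T.left, ⊤)) r, ← scalar_mul, Category.assoc]
  rfl

include hA hL hG in
theorem isIsotropic_of_lift [IsCommMonObj N] (j : N ⟶ G) [IsMonHom j] (hj : j ≫ ptOf u = v) :
    IsIsotropic L v := by
  intro T x y β₁ β₂ h₁ h₂
  have h : ∀ (z : T ⟶ N) (β : thetaPts A L T), IsOverPt β (z ≫ v) →
      ∃ r : (Γ(T.left, ⊤))ˣ, β = scalPt r (pull (z ≫ j) u) := fun z β hb =>
    exists_scalPt_eq hA hL (by rw [ptOf_eq hb, ptOf_pull, Category.assoc, hj])
  obtain ⟨r₁, rfl⟩ := h x β₁ h₁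
  obtain ⟨r₂, rfl⟩ := h y β₂ h₂
  rw [scalPt_mul hL, scalPt_mul hL, mul_comm r₁, ← pull_mul_pts hG, ← pull_mul_pts hG, ← MonObj.mul_comp,
    ← MonObj.mul_comp, mul_comm x y]

end Groth.Agent.ThetaSplit13
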