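import Groth.Agent.Lib.ThetaSplit13.Glike
import Groth.Agent.Lib.UniStr23.Good
import Groth.Agent.Lib.MTRigid29.BaseChange
import Groth.Agent.Lib.DiagGL.Main
import Mathlib.RingTheory.HopfAlgebra.GroupLike

/-!
# Characters extend from a multiplicative group in a commutative affine group
-/

set_option autoImplicit false
set_option linter.style.haveILetI false
set_option backward.isDefEq.respectTransparency.types false
set_option maxSynthPendingDepth 3

universe u

open CategoryTheory Limits MonoidalCategory CartesianMonoidalCategory MonObj AlgebraicGeometry Opposite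
open scoped TensorProduct

noncomputable section

namespace Groth.Agent.ThetaSplit13

open DiagGL

variable {k : Type u} [Field k] [IsAlgClosed k]

section Affine

variable {A : Type u} [CommRing A] [HopfAlgebra k A]

theorem cocomm_of_comm [IsCommMonObj (CoactBr.sp k A)] (a : A) :
    TensorProduct.comm k A A (Coalgebra.comul a) = Coalgebra.comul a := by
  have h := mul_comm (CoactBr.pt (Algebra.TensorProduct.includeRight : A →ₐ[k] A ⊗[k] A))
    (CoactBr.pt (Algebra.TensorProduct.includeLeft : A →ₐ[k] A ⊗[k] A))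
  rw [CoactBr.pt_mul_pt, CoactBr.pt_mul_pt] at h
  have h2 := DFunLike.congr_fun (UniStr23.pt_injective h) a
  simp only [AlgHom.comp_apply, Bialgebra.comulAlgHom_apply] at h2
  have e1 : ∀ z : A ⊗[k] A, Algebra.TensorProduct.lift (Algebra.TensorProduct.includeRight : A →ₐ[k] A ⊗[k] A)
      Algebra.TensorProduct.includeLeft (fun _ _ => .all _ _) z = TensorProduct.comm k A A z := fun z => by
    induction z with
    | zero => simp
    | tmul x y => simp
    | add x y hx hy => simp only [map_add, hx, hy]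
  have e2 : ∀ z : A ⊗[k] A, Algebra.TensorProduct.lift (Algebra.TensorProduct.includeLeft : A →ₐ[k] A ⊗[k] A)
      Algebra.TensorProduct.includeRight (fun _ _ => .all _ _) z = z := fun z => by
    induction z with
    | zero => simp
    | tmul x y => simp
    | add x y hx hy => simp only [map_add, hx, hy]
  exact ((e1 _).symm.trans h2).trans (e2 _)

theorem surjective_of_isClosedImmersion {B C : Type u} [CommRing B] [CommRing C] (φ : B →+* C)
    (hφ : IsClosedImmersion (Spec.map (CommRingCat.ofHom φ))) : Function.Surjective φ := by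
  haveI := hφ
  have h := (IsClosedImmersion.isAffine_surjective_of_isAffine (f := Spec.map (CommRingCat.ofHom φ))).2
  intro c
  obtain ⟨b, hb⟩ := h ((Scheme.ΓSpecIso (CommRingCat.of C)).inv c)
  refine ⟨(Scheme.ΓSpecIso (CommRingCat.of B)).hom b, ?_⟩
  have hn := ConcreteCategory.congr_hom (Scheme.ΓSpecIso_naturality (CommRingCat.ofHom φ)) b
  simp only [CommRingCat.hom_comp, RingHom.comp_apply, CommRingCat.hom_ofHom] at hn
  rw [← hn, hb]
  exact ConcreteCategory.congr_hom (Scheme.ΓSpecIso (CommRingCat.of C)).inv_hom_id c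

omit [IsAlgClosed k] in
theorem exists_bialgHom_of_glike {g : A} (hg : IsGroupLikeElem k g) :
    ∃ f : MonoidAlgebra k (Multiplicative ℤ) →ₐc[k] A,
      f (MonoidAlgebra.single (Multiplicative.ofAdd 1) 1) = g := by
  let fh : Multiplicative ℤ →* A :=
    (GroupLike.valMonoidHom k A).comp (zpowersHom (GroupLike k A) (⟨g, hg⟩ : GroupLike k A))
  have hfh : ∀ n, IsGroupLikeElem k (fh n) := fun n => GroupLike.isGroupLikeElem_val _
  let f₀ : MonoidAlgebra k (Multiplicative ℤ) →ₐ[k] A := MonoidAlgebra.lift k A (Multiplicative ℤ) fh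
  have hf₀ : ∀ n, f₀ (MonoidAlgebra.single n 1) = fh n := fun n => by simp [f₀]
  refine ⟨BialgHom.ofAlgHom f₀ (MonoidAlgebra.algHom_ext (fun n => ?_) (Subsingleton.elim _ _))
    (MonoidAlgebra.algHom_ext (fun n => ?_) (Subsingleton.elim _ _)), ?_⟩
  · show (Bialgebra.counitAlgHom k A).comp f₀ (MonoidAlgebra.single n 1) = Bialgebra.counitAlgHom k _ (MonoidAlgebra.single n 1)
    simp only [AlgHom.comp_apply, hf₀, Bialgebra.counitAlgHom_apply]
    rw [(hfh n).counit_eq_one, (MonoidAlgebra.isGroupLikeElem_single_one (R := k) (A := k) n).counit_eq_one]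
  · show (Algebra.TensorProduct.map f₀ f₀).comp (Bialgebra.comulAlgHom k _) (MonoidAlgebra.single n 1) =
      (Bialgebra.comulAlgHom k A).comp f₀ (MonoidAlgebra.single n 1)
    simp only [AlgHom.comp_apply, hf₀, Bialgebra.comulAlgHom_apply]
    rw [(hfh n).comul_eq_tmul_self, (MonoidAlgebra.isGroupLikeElem_single_one (R := k) (A := k) n).comul_eq_tmul_self,
      Algebra.TensorProduct.map_tmul, hf₀]
  · show f₀ _ = g
    rw [hf₀]
    show ((⟨g, hg⟩ : GroupLike k A) ^ (1 : ℤ)).val = g
    rw [zpow_one]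

theorem exists_retraction [IsCommMonObj (CoactBr.sp k A)]
    (j : CoactBr.sp k (MonoidAlgebra k (Multiplicative ℤ)) ⟶ CoactBr.sp k A) [IsMonHom j]
    [hcl : IsClosedImmersion j.left] :
    ∃ χ : CoactBr.sp k A ⟶ CoactBr.sp k (MonoidAlgebra k (Multiplicative ℤ)), IsMonHom χ ∧ j ≫ χ = 𝟙 _ := by
  obtain ⟨π, hπ⟩ := UniStr23.exists_bialg j
  rw [← hπ, CoactBr.pt_left] at hcl
  haveI := hcl
  have hπs : Function.Surjective π :=
    surjective_of_isClosedImmersion _ hcl
  obtain ⟨g, hg, hπg⟩ := exists_glike_lift (A := A) cocomm_of_comm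
    (π.toCoalgHom.toLinearMap : A →ₗ[k] MonoidAlgebra k (Multiplicative ℤ))
    (fun a => (CoalgHomClass.map_comp_comul_apply π.toCoalgHom a).symm)
    (fun a => CoalgHomClass.counit_comp_apply π.toCoalgHom a)
    hπs (Multiplicative.ofAdd 1)
  obtain ⟨f, hf⟩ := exists_bialgHom_of_glike hg
  refine ⟨CoactBr.pt (f : MonoidAlgebra k (Multiplicative ℤ) →ₐ[k] A), UniStr23.isMonHom_pt f, ?_⟩
  rw [← hπ, ← CoactBr.pt_comp, ← CoactBr.pt_id]
  congr 1
  refine MonoidAlgebra.algHom_ext' (M := Multiplicative ℤ) ?_ (Subsingleton.elim _ _)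
  refine MonoidHom.ext_mint ?_
  show π (f (MonoidAlgebra.single (Multiplicative.ofAdd 1) 1)) = MonoidAlgebra.single (Multiplicative.ofAdd 1) 1
  rw [hf]
  exact hπg

end Affine

/-- A closed multiplicative subgroup of a commutative affine group over an algebraically closed field is a
direct factor. -/
theorem exists_char {E : Over (Spec (CommRingCat.of k))} [GrpObj E] [IsCommMonObj E] [IsAffine E.left]
    (i : Red.Gm (Spec (CommRingCat.of k)) ⟶ E) [IsMonHom i] [IsClosedImmersion i.left] :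
    ∃ χ : E ⟶ Red.Gm (Spec (CommRingCat.of k)), IsMonHom χ ∧ i ≫ χ = 𝟙 _ := by
  obtain ⟨A, ⟨e⟩⟩ : (hopfSpec (CommRingCat.of k)).essImage (Grp.mk E) := essImage_hopfSpec.2 (by assumption)
  let φ : CoactBr.sp k A.unop ⟶ E := e.hom.hom.hom
  let ψ : E ⟶ CoactBr.sp k A.unop := e.inv.hom.hom
  haveI : IsMonHom φ := e.hom.hom.isMonHom_hom
  haveI : IsMonHom ψ := e.inv.hom.isMonHom_hom
  have h1 : φ ≫ ψ = 𝟙 _ := congrArg (fun m => m.hom.hom) e.hom_inv_id
  have h2 : ψ ≫ φ = 𝟙 _ := congrArg (fun m => m.hom.hom) e.inv_hom_id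
  haveI : Mono φ := ⟨fun x y h => by simpa [Category.assoc, h1] using congrArg (fun t => t ≫ ψ) h⟩
  haveI : IsCommMonObj (CoactBr.sp k A.unop) := IsCommMonObj.mk (by
    rw [← cancel_mono φ, Category.assoc, IsMonHom.mul_hom, ← Category.assoc, ← BraidedCategory.braiding_naturality,
      Category.assoc, IsCommMonObj.mul_comm])
  obtain ⟨d⟩ := MTRigid29.nonempty_grpIso_of_chars (charsDiag k ℤ) (charsDS (Spec (CommRingCat.of k)) ℤ)
  let a : CoactBr.sp k (MonoidAlgebra k (Multiplicative ℤ)) ⟶ Red.Gm (Spec (CommRingCat.of k)) := d.hom.hom.hom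
  let b : Red.Gm (Spec (CommRingCat.of k)) ⟶ CoactBr.sp k (MonoidAlgebra k (Multiplicative ℤ)) := d.inv.hom.hom
  haveI : IsMonHom a := d.hom.hom.isMonHom_hom
  haveI : IsMonHom b := d.inv.hom.isMonHom_hom
  have hab : a ≫ b = 𝟙 _ := congrArg (fun m => m.hom.hom) d.hom_inv_id
  have hba : b ≫ a = 𝟙 _ := congrArg (fun m => m.hom.hom) d.inv_hom_id
  haveI : IsIso a := ⟨b, hab, hba⟩
  haveI : IsIso ψ := ⟨φ, h2, h1⟩
  haveI : IsIso a.left := inferInstanceAs (IsIso ((Over.forget _).map a))
  haveI : IsIso ψ.left := inferInstanceAs (IsIso ((Over.forget _).map ψ))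
  haveI : IsClosedImmersion (a ≫ i ≫ ψ).left := by rw [Over.comp_left, Over.comp_left]; infer_instance
  obtain ⟨χ, hχ, hj⟩ := exists_retraction (a ≫ i ≫ ψ)
  haveI := hχ
  refine ⟨ψ ≫ χ ≫ a, inferInstance, ?_⟩
  calc i ≫ ψ ≫ χ ≫ a = b ≫ ((a ≫ i ≫ ψ) ≫ χ) ≫ a := by
        simp only [Category.assoc]; rw [← Category.assoc b, hba, Category.id_comp]
    _ = 𝟙 _ := by rw [hj, Category.id_comp, hba]

end Groth.Agent.ThetaSplit13
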