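import Groth.Agent.Lib.ThetaSplit13.Ext
import Groth.Agent.Lib.ThetaSplit13.Char

/-!
# Isotropic subgroups lift to the theta group over algebraically closed fields
-/

set_option autoImplicit false
set_option linter.style.haveILetI false
set_option linter.unusedSectionVars false
set_option backward.isDefEq.respectTransparency.types false

universe u

open CategoryTheory CategoryTheory.Limits MonoidalCategory CartesianMonoidalCategory MonObj AlgebraicGeometry Opposite

noncomputable section

namespace Groth.Agent.ThetaSplit13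

open ThetaGrp ThetaGrp19 ThetaSch13

variable {k : Type u} [Field k] [IsAlgClosed k] {A : Over (Spec (CommRingCat.of k))} [GrpObj A] [IsCommMonObj A]
  [IsProper A.hom] [GeometricallyIntegral A.hom] {L : A.left.Modules}
  {G : Over (Spec (CommRingCat.of k))} [GrpObj G] {u : thetaPts A L G}
  {N : Over (Spec (CommRingCat.of k))} [GrpObj N]

theorem isCommMonObj_of_mono (v : N ⟶ A) [IsMonHom v] [Mono v] : IsCommMonObj N := IsCommMonObj.mk (by
  rw [← cancel_mono v, Category.assoc, IsMonHom.mul_hom, ← Category.assoc, ← BraidedCategory.braiding_naturality,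
    Category.assoc, IsCommMonObj.mul_comm])

/-- An isotropic subgroup of `K(L)` lifts to a subgroup of the theta group. -/
theorem exists_lift (hL : PicF.IsInvertible L) (hG : IsThetaGrpSch A L G u)
    {K : Over (Spec (CommRingCat.of k))} {i : K ⟶ A} (hK : IsKL A L i)
    (v : N ⟶ A) [IsMonHom v] [IsClosedImmersion v.left] [IsAffine N.left]
    (hv : ∃ y : N ⟶ K, y ≫ i = v) (hiso : IsIsotropic L v) :
    ∃ j : N ⟶ G, IsMonHom j ∧ j ≫ ptOf u = v := by
  have hA := hzero_of_field A
  haveI : Mono ((Over.forget (Spec (CommRingCat.of k))).map v) := inferInstanceAs (Mono v.left)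
  haveI : Mono v := (Over.forget (Spec (CommRingCat.of k))).mono_of_mono_map ‹_›
  haveI := isCommMonObj_of_mono v
  haveI : IsClosedImmersion i.left := hK.closed
  haveI : Mono ((Over.forget (Spec (CommRingCat.of k))).map i) := inferInstanceAs (Mono i.left)
  haveI : Mono i := (Over.forget (Spec (CommRingCat.of k))).mono_of_mono_map ‹_›
  -- the group of points over `N`
  obtain ⟨q, hq⟩ := exists_factor hL hK u
  haveI : IsAffineHom q.left :=
    (isAffineHom_and_locallyOfFiniteType hA hL hG i q hq (exists_local_pt hL hK)).1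
  haveI : IsAffineHom (ptOf u).left := by rw [← hq, Over.comp_left]; infer_instance
  haveI := isMonHom_ptOf hG
  obtain ⟨gE, h₁, h₂⟩ := exists_grpObj_fib (ptOf u) v
  haveI := h₁
  haveI := h₂
  haveI : IsAffine (fib (ptOf u) v).left := by
    have h : IsAffineHom (pullback.snd (ptOf u).left v.left) := MorphismProperty.pullback_snd _ _ inferInstance
    exact @isAffine_of_isAffineHom _ _ (pullback.snd (ptOf u).left v.left) h inferInstance
  haveI : IsCommMonObj (fib (ptOf u) v) := IsCommMonObj.mk (by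
    have e : μ[fib (ptOf u) v] = fst _ _ * snd _ _ := by rw [Hom.mul_def, lift_fst_snd, Category.id_comp]
    rw [e, MonObj.comp_mul]
    simp only [braiding_hom_fst, braiding_hom_snd]
    refine fib_hom_ext ?_ ?_
    · rw [MonObj.mul_comp, MonObj.mul_comp]; exact comm_fib hG v hiso _ _
    · rw [MonObj.mul_comp, MonObj.mul_comp, mul_comm])
  obtain ⟨s, hs, hscal⟩ := exists_scal_incl hA hL hG v
  haveI : IsMonHom s := by
    refine TorsorSch25.isMonHom_of_points s fun T x y => fib_hom_ext ?_ ?_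
    · refine eq_of_pull_eq hG ?_
      rw [hscal, MonObj.mul_comp, pull_mul_pts hG, hscal, hscal, scalOne_mul hL]
    · have h1 : ∀ z : T ⟶ Red.Gm (Spec (CommRingCat.of k)), (z ≫ s) ≫ fib₂ (ptOf u) v = 1 := fun z => by
        rw [Category.assoc, hs.w, ← Category.assoc, toUnit_unique (z ≫ toUnit _) (toUnit T), ← Hom.one_def]
      rw [h1, MonObj.mul_comp, h1, h1, _root_.one_mul]
  haveI : IsClosedImmersion η[N].left := by
    haveI : IsSeparated N.hom := by rw [← Over.w v]; infer_instance
    exact isClosedImmersion_of_comp_eq_id N.hom η[N].left (Over.w η[N])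
  haveI : IsClosedImmersion s.left :=
    MorphismProperty.of_isPullback (P := @IsClosedImmersion) ((hs.map (Over.forget _)).flip) ‹IsClosedImmersion η[N].left›
  obtain ⟨χ, hχ, hsχ⟩ := exists_char s
  haveI := hχ
  -- canonical points
  have huniq : ∀ {T : Over (Spec (CommRingCat.of k))} (c c' : T ⟶ fib (ptOf u) v),
      c ≫ fib₂ (ptOf u) v = c' ≫ fib₂ (ptOf u) v → c ≫ χ = c' ≫ χ → c = c' := by
    intro T c c' e₂ eχ
    have h0 : (c * c'⁻¹) ≫ fib₂ (ptOf u) v = toUnit T ≫ η[N] := by
      rw [MonObj.mul_comp, GrpObj.inv_comp, e₂, mul_inv_cancel, Hom.one_def]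
    obtain ⟨t, ht⟩ : ∃ t : T ⟶ Red.Gm (Spec (CommRingCat.of k)), t ≫ s = c * c'⁻¹ :=
      ⟨hs.lift _ _ h0, hs.lift_fst _ _ h0⟩
    have ht1 : t = 1 := by
      have e : ((t ≫ s) * c') ≫ χ = c ≫ χ := by rw [ht, inv_mul_cancel_right]
      rw [MonObj.mul_comp, Category.assoc, hsχ, Category.comp_id, ← eχ] at e
      exact (mul_inv_cancel_right t (c ≫ χ)).symm.trans ((congrArg (fun z => z * (c ≫ χ)⁻¹) e).trans (mul_inv_cancel _))
    rw [ht1, MonObj.one_comp] at ht
    exact mul_inv_eq_one.1 ht.symm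
  obtain ⟨y, hy⟩ := hv
  choose U hU β hβ using fun p => exists_local_pt hL hK (y.left p)
  let V : N.left → N.left.Opens := fun p => y.left ⁻¹ᵁ U p
  let jV : ∀ p, Over.mk ((V p).ι ≫ N.hom) ⟶ N := fun p => Over.homMk (V p).ι rfl
  have hloc : ∀ p, ∃ c : Over.mk ((V p).ι ≫ N.hom) ⟶ fib (ptOf u) v,
      c ≫ fib₂ (ptOf u) v = jV p ∧ c ≫ χ = 1 := by
    intro p
    obtain ⟨a, ha⟩ := (exists_piece_iff (U p) (jV p ≫ y)).1 fun z => z.2
    obtain ⟨g, hg, -⟩ := hG.univ _ (pull a (β p))
    obtain ⟨c, hc₁, hc₂⟩ := exists_fibLift (f := ptOf u) (g := v) g (jV p) (by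
      rw [← ptOf_pull, ← eq_pull hg, ptOf_pull, hβ, reassoc_of% ha, hy])
    refine ⟨c * ((c ≫ χ)⁻¹ ≫ s), ?_, ?_⟩
    · rw [MonObj.mul_comp, Category.assoc _ s, hs.w, ← Category.assoc _ (toUnit _),
        toUnit_unique (_ ≫ toUnit _) (toUnit _), ← Hom.one_def, _root_.mul_one, hc₂]
    · rw [MonObj.mul_comp, Category.assoc _ s, hsχ, Category.comp_id, mul_inv_cancel]
  choose c hc₁ hc₂ using hloc
  let 𝒰 : Scheme.OpenCover.{u} N.left := Scheme.openCoverOfIsOpenCover N.left V
    (top_le_iff.1 fun p _ => TopologicalSpace.Opens.mem_iSup.2 ⟨p, hU p⟩)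
  have hcompat : ∀ p p', pullback.fst (V p).ι (V p').ι ≫ (c p).left =
      pullback.snd (V p).ι (V p').ι ≫ (c p').left := by
    intro p p'
    let T : Over (Spec (CommRingCat.of k)) := Over.mk (pullback.fst (V p).ι (V p').ι ≫ (V p).ι ≫ N.hom)
    let a : T ⟶ Over.mk ((V p).ι ≫ N.hom) := Over.homMk (pullback.fst (V p).ι (V p').ι) rfl
    let b : T ⟶ Over.mk ((V p').ι ≫ N.hom) := Over.homMk (pullback.snd (V p).ι (V p').ι) (by
      show pullback.snd (V p).ι (V p').ι ≫ (V p').ι ≫ N.hom = pullback.fst (V p).ι (V p').ι ≫ (V p).ι ≫ N.hom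
      rw [← Category.assoc, ← Category.assoc, pullback.condition])
    have h : a ≫ c p = b ≫ c p' := huniq _ _
      (by rw [Category.assoc, Category.assoc, hc₁, hc₁]; exact Over.OverMorphism.ext pullback.condition)
      (by rw [Category.assoc, Category.assoc, hc₂, hc₂, MonObj.comp_one, MonObj.comp_one])
    have h2 := congrArg Over.Hom.left h
    rw [Over.comp_left, Over.comp_left] at h2
    exact h2
  have hw : 𝒰.glueMorphisms (fun p => (c p).left) hcompat ≫ (fib (ptOf u) v).hom = N.hom := 𝒰.hom_ext _ _ fun p => by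
    rw [← Category.assoc, 𝒰.ι_glueMorphisms]
    exact Over.w (c p)
  let σ : N ⟶ fib (ptOf u) v := Over.homMk _ hw
  have hσ : ∀ p, jV p ≫ σ = c p := fun p => Over.OverMorphism.ext (by
    rw [Over.comp_left]
    exact 𝒰.ι_glueMorphisms _ _ p)
  have hext : ∀ {Y : Over (Spec (CommRingCat.of k))} (a b : N ⟶ Y), (∀ p, jV p ≫ a = jV p ≫ b) → a = b := by
    intro Y a b h
    refine Over.OverMorphism.ext (𝒰.hom_ext _ _ fun p => ?_)
    have := congrArg Over.Hom.left (h p)
    rw [Over.comp_left, Over.comp_left] at this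
    exact this
  have hσ₂ : σ ≫ fib₂ (ptOf u) v = 𝟙 N := hext _ _ fun p => by
    rw [← Category.assoc, hσ, hc₁, Category.comp_id]
  have hσχ : σ ≫ χ = 1 := hext _ _ fun p => by
    rw [← Category.assoc, hσ, hc₂, MonObj.comp_one]
  haveI : IsMonHom σ := TorsorSch25.isMonHom_of_points σ fun T x y => huniq _ _
    (by rw [Category.assoc, hσ₂, Category.comp_id, MonObj.mul_comp, Category.assoc, Category.assoc, hσ₂,
      Category.comp_id, Category.comp_id])
    (by rw [Category.assoc, hσχ, MonObj.comp_one, MonObj.mul_comp, Category.assoc, Category.assoc, hσχ,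
      MonObj.comp_one, MonObj.comp_one, _root_.mul_one])
  refine ⟨σ ≫ fib₁ (ptOf u) v, inferInstance, ?_⟩
  rw [Category.assoc, fib_condition, ← Category.assoc, hσ₂, Category.id_comp]

end Groth.Agent.ThetaSplit13
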