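import Mathlib.AlgebraicGeometry.Pullbacks
import Mathlib.CategoryTheory.Monoidal.Cartesian.Over
import Mathlib.CategoryTheory.Monoidal.Cartesian.Grp
import Mathlib.Algebra.Category.Grp.Basic

/-!
# Fibre products of group schemes
-/

set_option autoImplicit false
set_option linter.style.haveILetI false
set_option backward.isDefEq.respectTransparency.types false

universe u

open CategoryTheory Limits MonoidalCategory CartesianMonoidalCategory MonObj AlgebraicGeometry Opposite

noncomputable section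

namespace Groth.Agent.ThetaSplit13

variable {S : Scheme.{u}} {G N A : Over S} (f : G ⟶ A) (g : N ⟶ A)

/-- The fibre product as a scheme over the base. -/
def fib : Over S := Over.mk (pullback.fst f.left g.left ≫ G.hom)

/-- The first projection. -/
def fib₁ : fib f g ⟶ G := Over.homMk (pullback.fst f.left g.left) rfl

/-- The second projection. -/
def fib₂ : fib f g ⟶ N := Over.homMk (pullback.snd f.left g.left) (by
  show pullback.snd f.left g.left ≫ N.hom = pullback.fst f.left g.left ≫ G.hom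
  rw [← Over.w f, ← Over.w g, ← Category.assoc, ← Category.assoc, pullback.condition])

theorem fib_condition : fib₁ f g ≫ f = fib₂ f g ≫ g := Over.OverMorphism.ext pullback.condition

variable {f g} in
theorem exists_fibLift {T : Over S} (a : T ⟶ G) (b : T ⟶ N) (h : a ≫ f = b ≫ g) :
    ∃ c : T ⟶ fib f g, c ≫ fib₁ f g = a ∧ c ≫ fib₂ f g = b := by
  have h' : a.left ≫ f.left = b.left ≫ g.left := by rw [← Over.comp_left, ← Over.comp_left, h]
  have w : pullback.lift a.left b.left h' ≫ (fib f g).hom = T.hom := by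
    show pullback.lift a.left b.left h' ≫ pullback.fst f.left g.left ≫ G.hom = T.hom
    rw [← Category.assoc, pullback.lift_fst, Over.w a]
  exact ⟨Over.homMk _ w, Over.OverMorphism.ext (pullback.lift_fst _ _ _),
    Over.OverMorphism.ext (pullback.lift_snd _ _ _)⟩

variable {f g} in
theorem fib_hom_ext {T : Over S} {c c' : T ⟶ fib f g} (h₁ : c ≫ fib₁ f g = c' ≫ fib₁ f g)
    (h₂ : c ≫ fib₂ f g = c' ≫ fib₂ f g) : c = c' :=
  Over.OverMorphism.ext (pullback.hom_ext (congrArg Over.Hom.left h₁) (congrArg Over.Hom.left h₂))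

variable [GrpObj G] [GrpObj N] [GrpObj A] [IsMonHom f] [IsMonHom g]

/-- The group of pairs of points over the same point. -/
def pairs (T : Over S) : Subgroup ((T ⟶ G) × (T ⟶ N)) where
  carrier := {p | p.1 ≫ f = p.2 ≫ g}
  mul_mem' := fun {p q} hp hq => by
    show (p.1 * q.1) ≫ f = (p.2 * q.2) ≫ g
    rw [MonObj.mul_comp, MonObj.mul_comp, hp, hq]
  one_mem' := by
    show (1 : T ⟶ G) ≫ f = (1 : T ⟶ N) ≫ g
    rw [MonObj.one_comp, MonObj.one_comp]
  inv_mem' := fun {p} hp => by
    show p.1⁻¹ ≫ f = p.2⁻¹ ≫ g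
    rw [GrpObj.inv_comp, GrpObj.inv_comp, hp]

/-- The functor of pairs. -/
def pairsFun : (Over S)ᵒᵖ ⥤ GrpCat.{u} where
  obj T := GrpCat.of (pairs f g T.unop)
  map {T T'} t := GrpCat.ofHom (MonoidHom.mk' (fun p => ⟨(t.unop ≫ p.1.1, t.unop ≫ p.1.2), by
      show (t.unop ≫ p.1.1) ≫ f = (t.unop ≫ p.1.2) ≫ g
      rw [Category.assoc, Category.assoc, p.2]⟩) fun p q => Subtype.ext (Prod.ext (MonObj.comp_mul _ _ _) (MonObj.comp_mul _ _ _)))
  map_id T := GrpCat.hom_ext (MonoidHom.ext fun p => Subtype.ext (Prod.ext (Category.id_comp _) (Category.id_comp _)))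
  map_comp t t' := GrpCat.hom_ext (MonoidHom.ext fun p =>
    Subtype.ext (Prod.ext (Category.assoc _ _ _) (Category.assoc _ _ _)))

/-- The fibre product is a group with homomorphic projections. -/
theorem exists_grpObj_fib : ∃ _ : GrpObj (fib f g), IsMonHom (fib₁ f g) ∧ IsMonHom (fib₂ f g) := by
  let α : (pairsFun f g ⋙ forget _).RepresentableBy (fib f g) :=
    { homEquiv := fun {T} => Equiv.ofBijective
        (fun c => (⟨(c ≫ fib₁ f g, c ≫ fib₂ f g), by
          show (c ≫ fib₁ f g) ≫ f = (c ≫ fib₂ f g) ≫ g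
          rw [Category.assoc, Category.assoc, fib_condition]⟩ : pairs f g T))
        ⟨fun c c' h => fib_hom_ext (congrArg (fun p : pairs f g T => p.1.1) h) (congrArg (fun p : pairs f g T => p.1.2) h),
          fun p => by
            obtain ⟨c, h1, h2⟩ := exists_fibLift p.1.1 p.1.2 p.2
            exact ⟨c, Subtype.ext (Prod.ext h1 h2)⟩⟩
      homEquiv_comp := fun t c => Subtype.ext (Prod.ext (Category.assoc _ _ _) (Category.assoc _ _ _)) }
  letI : GrpObj (fib f g) := GrpObj.ofRepresentableBy _ (pairsFun f g) α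
  have hmul : ∀ {T : Over S} (c c' : T ⟶ fib f g), (c * c') ≫ fib₁ f g = (c ≫ fib₁ f g) * (c' ≫ fib₁ f g) ∧
      (c * c') ≫ fib₂ f g = (c ≫ fib₂ f g) * (c' ≫ fib₂ f g) := fun {T} c c' => by
    have h : (α.homEquiv (c * c') : pairs f g T) = α.homEquiv c * α.homEquiv c' :=
      ((yonedaGrpObjIsoOfRepresentableBy _ (pairsFun f g) α).hom.app (op T)).hom.map_mul c c'
    exact ⟨congrArg (fun p : pairs f g T => p.1.1) h, congrArg (fun p : pairs f g T => p.1.2) h⟩
  have key : ∀ {Y : Over S} [GrpObj Y] (π : fib f g ⟶ Y),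
      (∀ {T : Over S} (c c' : T ⟶ fib f g), (c * c') ≫ π = (c ≫ π) * (c' ≫ π)) → IsMonHom π := by
    intro Y _ π h
    refine ⟨?_, ?_⟩
    · have h1 := h (1 : 𝟙_ (Over S) ⟶ fib f g) 1
      rw [_root_.one_mul (1 : 𝟙_ _ ⟶ fib f g), left_eq_mul, Hom.one_def, Hom.one_def, toUnit_unique (toUnit _) (𝟙 _),
        Category.id_comp, Category.id_comp] at h1
      exact h1
    · have h2 := h (fst (fib f g) (fib f g)) (snd (fib f g) (fib f g))
      rw [Hom.mul_def, Hom.mul_def, lift_fst_snd, Category.id_comp] at h2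
      rw [h2, ← lift_fst_comp_snd_comp]
  exact ⟨inferInstance, key _ (fun c c' => (hmul c c').1), key _ (fun c c' => (hmul c c').2)⟩

end Groth.Agent.ThetaSplit13
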