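import Groth.Agent.Lib.ThetaSch13.Level
import Groth.Agent.Lib.ThetaSplit13.Pullback

/-!
# The extension of an isotropic subgroup by the scalars
-/

set_option autoImplicit false
set_option linter.style.haveILetI false
set_option linter.unusedSectionVars false
set_option backward.isDefEq.respectTransparency.types false

universe u

open CategoryTheory CategoryTheory.Limits MonoidalCategory CartesianMonoidalCategory MonObj AlgebraicGeometry Opposite

noncomputable section

namespace Groth.Agent.ThetaSplit13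

open ThetaGrp ThetaGrp19 ThetaSch13

variable {S : Scheme.{u}} {A : Over S} [GrpObj A] [IsCommMonObj A] {L : A.left.Modules}
  (hA : HZero A) (hL : PicF.IsInvertible L) {G : Over S} [GrpObj G] {u : thetaPts A L G}
  (hG : IsThetaGrpSch A L G u) {N : Over S} [GrpObj N] (v : N ⟶ A) [IsMonHom v]

/-- The scalar points. -/
def scalOne {T : Over S} (t : T ⟶ Red.Gm S) : thetaPts A L T := scalPt (GmPts.unitOfPt t) 1

theorem ptOf_one' (T : Over S) : ptOf (1 : thetaPts A L T) = 1 := ptOf_eq (by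
  show (𝟙 (thetaObj A L T) : thetaObj A L T ⟶ thetaObj A L T).base = _
  rw [transl_one]; rfl)

theorem ptOf_scalOne {T : Over S} (t : T ⟶ Red.Gm S) : ptOf (scalOne (L := L) t : thetaPts A L T) = 1 := by
  rw [scalOne, ptOf_scalPt, ptOf_one']

include hL in
theorem scalOne_mul {T : Over S} (s t : T ⟶ Red.Gm S) :
    (scalOne (L := L) (s * t) : thetaPts A L T) = scalOne s * scalOne t := by
  refine Subtype.ext (Iso.ext ?_)
  show (scalOne (L := L) (s * t) : thetaPts A L T).1.hom =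
    (scalOne (L := L) t : thetaPts A L T).1.hom ≫ (scalOne (L := L) s : thetaPts A L T).1.hom
  rw [scalOne, scalOne, scalOne, scalPt_hom, scalPt_hom, scalPt_hom, GmPts.unitOfPt_mul, Units.val_mul]
  show scalar A L T _ ≫ 𝟙 _ = (scalar A L T _ ≫ 𝟙 _) ≫ scalar A L T _ ≫ 𝟙 _
  rw [Category.comp_id, Category.comp_id, Category.comp_id, scalar_mul, mul_comm]

include hG in
theorem pull_one_pt {T : Over S} : pull (1 : T ⟶ G) u = 1 := by
  have h := pull_mul_pts hG (1 : T ⟶ G) 1
  rw [_root_.one_mul] at h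
  exact left_eq_mul.1 h

include hG in
theorem comm_fib (hiso : IsIsotropic L v) [IsCommMonObj N] {T : Over S} (c c' : T ⟶ fib (ptOf u) v) :
    (c ≫ fib₁ (ptOf u) v) * (c' ≫ fib₁ (ptOf u) v) = (c' ≫ fib₁ (ptOf u) v) * (c ≫ fib₁ (ptOf u) v) := by
  have hover : ∀ d : T ⟶ fib (ptOf u) v,
      IsOverPt (pull (d ≫ fib₁ (ptOf u) v) u) ((d ≫ fib₂ (ptOf u) v) ≫ v) := fun d => by
    have h := isOverPt_ptOf (pull (d ≫ fib₁ (ptOf u) v) u)
    rwa [ptOf_pull, Category.assoc, fib_condition, ← Category.assoc] at h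
  refine eq_of_pull_eq hG ?_
  rw [pull_mul_pts hG, pull_mul_pts hG]
  exact hiso T _ _ _ _ (hover c) (hover c')

include hA hL hG in
/-- The scalars are the kernel of the extension. -/
theorem exists_scal_incl :
    ∃ i : Red.Gm S ⟶ fib (ptOf u) v, IsPullback i (toUnit _) (fib₂ (ptOf u) v) η[N] ∧
      ∀ {T : Over S} (t : T ⟶ Red.Gm S), pull ((t ≫ i) ≫ fib₁ (ptOf u) v) u = scalOne t := by
  obtain ⟨g, hg, -⟩ := hG.univ (Red.Gm S) (scalOne (L := L) (𝟙 (Red.Gm S)))
  have hg' : pull g u = scalOne (L := L) (𝟙 (Red.Gm S)) := (eq_pull hg).symm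
  obtain ⟨i, hi₁, hi₂⟩ := exists_fibLift (f := ptOf u) (g := v) g 1 (by
    rw [← ptOf_pull, hg', ptOf_scalOne, MonObj.one_comp])
  have hpull : ∀ {T : Over S} (t : T ⟶ Red.Gm S), pull ((t ≫ i) ≫ fib₁ (ptOf u) v) u = scalOne t := fun {T} t => by
    rw [Category.assoc, hi₁, ← pull_pull, hg', scalOne, pull_scalPt hL, ← GmPts.unitOfPt_comp, Category.comp_id,
      ← pull_one_pt hG, pull_pull, MonObj.comp_one, pull_one_pt hG, scalOne]
  refine ⟨i, ?_, hpull⟩
  have hinj : ∀ {T : Over S} (t t' : T ⟶ Red.Gm S), t ≫ i = t' ≫ i → t = t' := fun {T} t t' h => by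
    have h1 := hpull t
    rw [h, hpull t'] at h1
    exact ((GmPts.equiv T).injective (scalPt_injective hA hL _ h1)).symm
  have hex : ∀ (s : PullbackCone (fib₂ (ptOf u) v) η[N]), ∃ t : s.pt ⟶ Red.Gm S, t ≫ i = s.fst := fun s => by
    have h2 : s.fst ≫ fib₂ (ptOf u) v = 1 := by
      rw [s.condition, Hom.one_def, toUnit_unique s.snd (toUnit _)]
    obtain ⟨r, hr⟩ := exists_scalPt_eq hA hL
      (show ptOf (pull (s.fst ≫ fib₁ (ptOf u) v) u) = ptOf (1 : thetaPts A L s.pt) by
        rw [ptOf_pull, Category.assoc, fib_condition, ← Category.assoc, h2, MonObj.one_comp, ptOf_one'])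
    refine ⟨GmPts.ptOfUnit r, fib_hom_ext (eq_of_pull_eq hG ?_) ?_⟩
    · rw [hpull, scalOne, GmPts.unitOfPt_ptOfUnit, hr]
    · rw [Category.assoc, hi₂, MonObj.comp_one, h2]
  choose l hl using hex
  refine ⟨⟨by rw [hi₂, Hom.one_def]⟩, ⟨PullbackCone.IsLimit.mk _ l hl (fun s => toUnit_unique _ _) ?_⟩⟩
  exact fun s m hm _ => hinj m _ (hm.trans (hl s).symm)

end Groth.Agent.ThetaSplit13
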