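import Groth.Agent.Lib.CoalgH23.Coef
import Mathlib.RingTheory.Bialgebra.MonoidAlgebra
import Mathlib.RingTheory.Coalgebra.GroupLike
import Mathlib.FieldTheory.IsAlgClosed.Basic
import Mathlib.RingTheory.Nilpotent.Lemmas

/-!
# Group-like elements lift along maps of cocommutative coalgebras over algebraically closed fields
-/

set_option autoImplicit false

universe u

open TensorProduct HopfRep WithConv

noncomputable section

namespace Groth.Agent.ThetaSplit13

open CoalgH23

variable {k : Type u} [Field k] [IsAlgClosed k]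

theorem coeff_comul {M : Type} [Monoid M] (m : M) (δ : MonoidAlgebra k M →ₗ[k] k)
    (hδm : δ (MonoidAlgebra.single m 1) = 1) (hδ : ∀ n, n ≠ m → δ (MonoidAlgebra.single n 1) = 0)
    (x : MonoidAlgebra k M) :
    LinearMap.mul' k k (TensorProduct.map δ δ (CoalgebraStruct.comul (R := k) x)) = δ x := by
  induction x using MonoidAlgebra.induction_linear with
  | zero => simp
  | add a b ha hb => simp only [map_add, ha, hb]
  | single n r =>
    rw [show MonoidAlgebra.single n r = r • MonoidAlgebra.single n (1 : k) by simp]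
    simp only [map_smul]
    rw [(MonoidAlgebra.isGroupLikeElem_single_one (R := k) (A := k) n).comul_eq_tmul_self, TensorProduct.map_tmul,
      LinearMap.mul'_apply]
    by_cases hn : n = m
    · subst hn; rw [hδm, mul_one]
    · rw [hδ n hn, mul_zero]

variable {A : Type u} [AddCommGroup A] [Module k A] [Coalgebra k A]

theorem convMul_comm (hcc : ∀ a : A, TensorProduct.comm k A A (CoalgebraStruct.comul a) = CoalgebraStruct.comul a)
    (φ ψ : WithConv (A →ₗ[k] k)) : φ * ψ = ψ * φ := by
  refine WithConv.ofConv_injective (LinearMap.ext fun a => ?_)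
  rw [LinearMap.convMul_def, LinearMap.convMul_def]
  simp only [WithConv.ofConv_toConv, LinearMap.comp_apply]
  conv_lhs => rw [← hcc a]
  induction (CoalgebraStruct.comul (R := k) a) with
  | zero => simp
  | tmul x y => simp [mul_comm]
  | add x y hx hy => simp only [map_add, hx, hy]

theorem exists_glike_lift
    (hcc : ∀ a : A, TensorProduct.comm k A A (CoalgebraStruct.comul a) = CoalgebraStruct.comul a)
    {M : Type} [Monoid M] (π : A →ₗ[k] MonoidAlgebra k M)
    (hπc : ∀ a, CoalgebraStruct.comul (R := k) (π a) = TensorProduct.map π π (CoalgebraStruct.comul a))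
    (hπe : ∀ a, CoalgebraStruct.counit (R := k) (π a) = CoalgebraStruct.counit (R := k) a)
    (hπs : Function.Surjective π) (m : M) :
    ∃ g : A, IsGroupLikeElem k g ∧ π g = MonoidAlgebra.single m 1 := by
  classical
  letI : CommRing (WithConv (A →ₗ[k] k)) := { (inferInstance : Ring _) with mul_comm := convMul_comm hcc }
  obtain ⟨a, ha⟩ := hπs (MonoidAlgebra.single m 1)
  let δ : MonoidAlgebra k M →ₗ[k] k :=
    { toFun := fun x => x.coeff m, map_add' := fun _ _ => rfl, map_smul' := fun _ _ => rfl }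
  have hδm : δ (MonoidAlgebra.single m 1) = 1 := by simp [δ]
  have hδ : ∀ n, n ≠ m → δ (MonoidAlgebra.single n 1) = 0 := fun n hn => by simp [δ, hn]
  let e : WithConv (A →ₗ[k] k) := toConv (δ ∘ₗ π)
  have he : e * e = e := WithConv.ofConv_injective (LinearMap.ext fun x => by
    rw [LinearMap.convMul_def]
    simp only [e, WithConv.ofConv_toConv, LinearMap.comp_apply, TensorProduct.map_comp]
    rw [← hπc x]
    exact coeff_comul m δ hδm hδ (π x))
  let T : WithConv (A →ₗ[k] k) →ₗ[k] A :=
    { toFun := fun φ => slice φ.ofConv (CoalgebraStruct.comul (R := k) a)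
      map_add' := fun φ ψ => by simp [slice, LinearMap.lTensor_add]
      map_smul' := fun r φ => by simp [slice, LinearMap.lTensor_smul] }
  have hT : ∀ φ ψ : WithConv (A →ₗ[k] k), (φ * ψ).ofConv a = φ.ofConv (T ψ) := fun φ ψ =>
    convMul_apply_slice φ ψ a
  have hT0 : ∀ φ : WithConv (A →ₗ[k] k), (∀ ψ : WithConv (A →ₗ[k] k), (ψ * φ).ofConv a = 0) ↔ T φ = 0 := by
    intro φ
    refine ⟨fun h => (Module.forall_dual_apply_eq_zero_iff k _).1 fun l => ?_, fun h ψ => by rw [hT, h, map_zero]⟩
    exact (hT (toConv l) φ).symm.trans (h (toConv l))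
  let I : Ideal (WithConv (A →ₗ[k] k)) :=
    { carrier := {φ | ∀ ψ : WithConv (A →ₗ[k] k), (ψ * φ).ofConv a = 0}
      zero_mem' := fun ψ => by simp
      add_mem' := fun {φ φ'} h h' ψ => by simp [mul_add, h ψ, h' ψ]
      smul_mem' := fun r φ h ψ => by rw [smul_eq_mul, ← mul_assoc]; exact h _ }
  have hI : LinearMap.ker T = I.restrictScalars k := SetLike.ext fun φ => (hT0 φ).symm
  haveI : Module.Finite k (LinearMap.range T) := by
    refine @Submodule.finiteDimensional_of_le k A _ _ _ _ _ (finite_span_singleton (k := k) (C := A) a) ?_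
    rintro _ ⟨φ, rfl⟩
    exact Submodule.mem_span_singleton.2 ⟨φ, rfl⟩
  haveI : Module.Finite k (WithConv (A →ₗ[k] k) ⧸ I) := by
    haveI : Module.Finite k (WithConv (A →ₗ[k] k) ⧸ I.restrictScalars k) :=
      hI ▸ Module.Finite.equiv T.quotKerEquivRange.symm
    exact Module.Finite.equiv (Submodule.Quotient.restrictScalarsEquiv k I)
  have heI : ¬ IsNilpotent (Ideal.Quotient.mk I e) := by
    rintro ⟨n, hn⟩
    have hpow : ∀ n, Ideal.Quotient.mk I e ^ (n + 1) = Ideal.Quotient.mk I e := fun n => by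
      induction n with
      | zero => rw [pow_one]
      | succ n ih => rw [pow_succ, ih, ← map_mul, he]
    have h0 : Ideal.Quotient.mk I e = 0 := by rw [← hpow n, pow_succ, hn, zero_mul]
    have h1 : (1 * e).ofConv a = 0 := Ideal.Quotient.eq_zero_iff_mem.1 h0 1
    rw [one_mul] at h1
    simp [e, ha, hδm] at h1
  rw [← mem_nilradical, nilradical_eq_sInf, Ideal.mem_sInf] at heI
  push Not at heI
  obtain ⟨p, hp, hep⟩ := heI
  haveI : p.IsPrime := hp
  have hsc := IsAlgClosed.algebraMap_bijective_of_isIntegral (k := k) (K := (WithConv (A →ₗ[k] k) ⧸ I) ⧸ p)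
  let χ : WithConv (A →ₗ[k] k) →ₐ[k] k :=
    ((AlgEquiv.ofBijective (Algebra.ofId k _) hsc).symm.toAlgHom.comp (Ideal.Quotient.mkₐ k p)).comp
      (Ideal.Quotient.mkₐ k I)
  have hχe : χ e = 1 := by
    have h1 : χ e * χ e = χ e := by rw [← map_mul, he]
    rcases IsIdempotentElem.iff_eq_zero_or_one.1 h1 with h | h
    · refine (hep (Ideal.Quotient.eq_zero_iff_mem.1 ?_)).elim
      exact (EmbeddingLike.map_eq_zero_iff (f := (AlgEquiv.ofBijective (Algebra.ofId k _) hsc).symm)).1 h
    · exact h
  have hχI : ∀ φ ∈ I, χ φ = 0 := fun φ hφ => by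
    show (AlgEquiv.ofBijective (Algebra.ofId k _) hsc).symm (Ideal.Quotient.mk p (Ideal.Quotient.mk I φ)) = 0
    rw [Ideal.Quotient.eq_zero_iff_mem.2 hφ, map_zero, map_zero]
  let C : Submodule k A := LinearMap.range T
  let r : WithConv (A →ₗ[k] k) →ₗ[k] Module.Dual k C :=
    { toFun := fun φ => φ.ofConv ∘ₗ C.subtype
      map_add' := fun φ ψ => by ext; simp
      map_smul' := fun c φ => by ext; simp }
  have hr : Function.Surjective r := fun l => by
    obtain ⟨L, hL⟩ := LinearMap.exists_extend l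
    exact ⟨toConv L, hL⟩
  have hker : LinearMap.ker r ≤ LinearMap.ker χ.toLinearMap := fun φ hφ => hχI φ fun ψ => by
    rw [mul_comm ψ φ, hT]
    exact LinearMap.congr_fun (LinearMap.mem_ker.1 hφ) ⟨T ψ, ψ, rfl⟩
  obtain ⟨s, hs⟩ := r.exists_rightInverse_of_surjective (LinearMap.range_eq_top.2 hr)
  let g₀ : C := (Module.evalEquiv k C).symm (χ.toLinearMap ∘ₗ s)
  have hg : ∀ φ : WithConv (A →ₗ[k] k), φ.ofConv (g₀ : A) = χ φ := fun φ => by
    show r φ g₀ = _
    rw [Module.apply_evalEquiv_symm_apply]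
    have hd : φ - s (r φ) ∈ LinearMap.ker r := by
      rw [LinearMap.mem_ker, map_sub, ← LinearMap.comp_apply r s, hs, LinearMap.id_apply, sub_self]
    exact (sub_eq_zero.1 ((map_sub χ.toLinearMap _ _).symm.trans (hker hd))).symm
  have hgl : IsGroupLikeElem k (g₀ : A) := by
    refine ⟨?_, eq_of_slice_eq fun ψ => ?_⟩
    · have h := hg 1
      rw [map_one, LinearMap.convOne_def] at h
      simpa using h
    · rw [slice_tmul, ← sub_eq_zero]
      refine (Module.forall_dual_apply_eq_zero_iff k _).1 fun φ => ?_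
      rw [map_sub, map_smul, smul_eq_mul, sub_eq_zero]
      refine (convMul_apply_slice (toConv φ) (toConv ψ) (g₀ : A)).symm.trans ?_
      rw [hg, map_mul, ← hg, ← hg, mul_comm]
  have hgl' : IsGroupLikeElem k (π g₀) := ⟨(hπe _).trans hgl.counit_eq_one, by
    rw [hπc, hgl.comul_eq_tmul_self, TensorProduct.map_tmul]⟩
  obtain ⟨n, hn⟩ := MonoidAlgebra.isGroupLikeElem_iff_mem_range_single_one.1 hgl'
  refine ⟨g₀, hgl, ?_⟩
  have hone : δ (π g₀) = 1 := (hg e).trans hχe
  rw [← hn] at hone ⊢
  by_contra hne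
  have hnm : n ≠ m := fun h => hne (by rw [h])
  rw [hδ n hnm] at hone
  exact one_ne_zero hone.symm

end Groth.Agent.ThetaSplit13
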